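import Cfsg.Agent.H498.Ab.RowU
import Cfsg.Agent.H392.TwFFour.Bound
import Cfsg.Agent.KFacts.TwF4.TorEx
import Cfsg.Agent.H127.TwFInv
import Cfsg.Agent.H84.SzLevi
import Cfsg.Agent.H753.AbSz
import Cfsg.Agent.H42.Deg.F4BigB
import Cfsg.Agent.FastGrp
import Cfsg.Agent.Prune
set_option linter.all false
prune_inst 0x7f00000000000000000000000000000000000000000000000000000000000000000000000000000000000000000000000000000000000000000000000000000000000000000000000000000000000000003fffffffffffffffffffffffffffbeffbdffffffff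
open scoped Cfsg.Agent.FastGrp

-- part: H991/TwFAb/Gen
section
/-!
# Generalities for the abelian subgroups of `²F₄(q)` (helper991, for S2501)

* `orth_card` : orthogonal sets of vectors in `F ^ 4`;
* `card_le_of_fun` : counting through a function;
* `card_split` : abelian subgroups of a split extension `P = L N`;
* `exists_conj_of_order` : fixed points of a map of prime order on a 2-group.
-/

set_option autoImplicit false
set_option linter.unusedSectionVars false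

namespace Cfsg.Agent.H991.TwFAb

open Subgroup Cfsg.Agent.H498.Ab

/-- orthogonal sets of vectors -/
theorem orth_card {F : Type*} [Field F] [Finite F] {n : ℕ} (X Y : Set (Fin n → F)) (h : ∀ x ∈ X, ∀ y ∈ Y, x ⬝ᵥ y = 0) :
    Nat.card X * Nat.card Y ≤ Nat.card F ^ n := by
  classical
  have : Fintype F := Fintype.ofFinite F
  let W : Submodule F (Fin n → F) := Submodule.span F X
  let B : LinearMap.BilinForm F (Fin n → F) := Matrix.toBilin' (1 : Matrix (Fin n) (Fin n) F)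
  have hB : ∀ x y, B x y = x ⬝ᵥ y := by
    intro x y
    rw [Matrix.toBilin'_apply']
    rw [Matrix.one_mulVec]
  have hnd : B.Nondegenerate := by
    exact LinearMap.BilinForm.nondegenerate_toBilin'_of_det_ne_zero' _ (by rw [Matrix.det_one]; exact one_ne_zero)
  have h1 := LinearMap.BilinForm.finrank_orthogonal hnd W
  have hX : X ⊆ (W : Set (Fin n → F)) := Submodule.subset_span
  have hY : Y ⊆ (B.orthogonal W : Set (Fin n → F)) := by
    intro y hy
    rw [SetLike.mem_coe, LinearMap.BilinForm.mem_orthogonal_iff]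
    intro x hx
    show B x y = 0
    rw [hB]
    refine Submodule.span_induction (p := fun x _ => x ⬝ᵥ y = 0) ?_ ?_ ?_ ?_ hx
    · exact fun x hx => h x hx y hy
    · exact zero_dotProduct y
    · intro a b _ _ ha hb
      rw [add_dotProduct, ha, hb, add_zero]
    · intro c a _ ha
      rw [smul_dotProduct, ha, smul_zero]
  have c1 : Nat.card X ≤ Nat.card W := Nat.card_mono (Set.toFinite _) hX
  have c2 : Nat.card Y ≤ Nat.card (B.orthogonal W) := Nat.card_mono (Set.toFinite _) hY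
  have d1 : Nat.card W = Nat.card F ^ Module.finrank F W := by
    rw [Nat.card_eq_fintype_card, Nat.card_eq_fintype_card, Module.card_eq_pow_finrank (K := F)]
  have d2 : Nat.card (B.orthogonal W) = Nat.card F ^ Module.finrank F (B.orthogonal W) := by
    rw [Nat.card_eq_fintype_card, Nat.card_eq_fintype_card, Module.card_eq_pow_finrank (K := F)]
  have h2 : Module.finrank F W ≤ n := by
    have := Submodule.finrank_le W
    rwa [Module.finrank_fin_fun] at this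
  calc Nat.card X * Nat.card Y ≤ Nat.card W * Nat.card (B.orthogonal W) := Nat.mul_le_mul c1 c2
    _ = Nat.card F ^ n := by
      rw [d1, d2, ← pow_add, h1, Module.finrank_fin_fun]
      congr 1
      omega

section grp

variable {G : Type*} [Group G] [Finite G]

/-- counting through a function -/
theorem card_le_of_fun {A K : Subgroup G} {α : Type*} [Finite α] (f : G → α) (X : Set α) (hX : ∀ a ∈ A, f a ∈ X)
    (hf : ∀ a ∈ A, ∀ b ∈ A, f a = f b → a⁻¹ * b ∈ K) : Nat.card A ≤ Nat.card X * Nat.card (A ⊓ K : Subgroup G) := by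
  classical
  -- a section of `f`
  let r : α → G := fun x => if h : ∃ a ∈ A, f a = x then h.choose else 1
  have hr : ∀ a ∈ A, r (f a) ∈ A ∧ f (r (f a)) = f a := by
    intro a ha
    have h : ∃ b ∈ A, f b = f a := ⟨a, ha, rfl⟩
    have e : r (f a) = h.choose := dif_pos h
    rw [e]
    exact h.choose_spec
  rw [← Nat.card_prod]
  refine Nat.card_le_card_of_injective
    (fun a : A => ((⟨f a, hX a a.2⟩ : X), (⟨(r (f a))⁻¹ * a, A.mul_mem (A.inv_mem (hr a a.2).1) a.2,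
      hf _ (hr a a.2).1 _ a.2 (hr a a.2).2⟩ : (A ⊓ K : Subgroup G)))) ?_
  intro a b hab
  obtain ⟨e1, e2⟩ := Prod.ext_iff.1 hab
  have e3 : f a = f b := congrArg Subtype.val e1
  have e4 : (r (f a))⁻¹ * (a : G) = (r (f b))⁻¹ * (b : G) := congrArg Subtype.val e2
  rw [e3] at e4
  exact Subtype.ext (mul_left_cancel e4)

/-- abelian subgroups of a split extension -/
theorem card_split {P N L A : Subgroup G} (hN : ∀ g ∈ P, ∀ n ∈ N, g * n * g⁻¹ ∈ N) (hLP : L ≤ P)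
    (hPL : ∀ g ∈ P, ∃ l ∈ L, ∃ n ∈ N, g = l * n) (hLN : ∀ x ∈ L, x ∈ N → x = 1) (hA : A ≤ P)
    (hAc : ∀ x ∈ A, ∀ y ∈ A, x * y = y * x) :
    ∃ B : Subgroup G, B ≤ L ∧ (∀ x ∈ B, ∀ y ∈ B, x * y = y * x) ∧
      Nat.card A = Nat.card (A ⊓ N : Subgroup G) * Nat.card B := by
  classical
  have huniq : ∀ l ∈ L, ∀ n ∈ N, ∀ l' ∈ L, ∀ n' ∈ N, l * n = l' * n' → l = l' := by
    intro l hl n hn l' hl' n' hn' h
    have h1 : l'⁻¹ * l = n' * n⁻¹ := by
      rw [inv_mul_eq_iff_eq_mul, ← mul_assoc, ← h, mul_inv_cancel_right]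
    have h2 := hLN _ (mul_mem (inv_mem hl') hl) (by rw [h1]; exact mul_mem hn' (inv_mem hn))
    exact (inv_mul_eq_one.1 h2).symm
  have hN' : ∀ g ∈ P, ∀ n ∈ N, g⁻¹ * n * g ∈ N := by
    intro g hg n hn
    have := hN g⁻¹ (inv_mem hg) n hn
    rwa [inv_inv] at this
  let B : Subgroup G :=
    { carrier := {l | l ∈ L ∧ ∃ n ∈ N, l * n ∈ A}
      one_mem' := ⟨one_mem _, 1, one_mem _, by rw [mul_one]; exact one_mem _⟩
      mul_mem' := by
        rintro l l' ⟨hl, n, hn, h⟩ ⟨hl', n', hn', h'⟩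
        refine ⟨mul_mem hl hl', (l'⁻¹ * n * l') * n', mul_mem (hN' _ (hLP hl') _ hn) hn', ?_⟩
        have e : l * l' * (l'⁻¹ * n * l' * n') = (l * n) * (l' * n') := by group
        rw [e]; exact mul_mem h h'
      inv_mem' := by
        rintro l ⟨hl, n, hn, h⟩
        refine ⟨inv_mem hl, l * n⁻¹ * l⁻¹, hN _ (hLP hl) _ (inv_mem hn), ?_⟩
        have e : l⁻¹ * (l * n⁻¹ * l⁻¹) = (l * n)⁻¹ := by group
        rw [e]; exact inv_mem h }
  have hBL : B ≤ L := fun l hl => hl.1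
  refine ⟨B, hBL, ?_, ?_⟩
  · rintro l ⟨hl, n, hn, h⟩ l' ⟨hl', n', hn', h'⟩
    refine huniq (l * l') (mul_mem hl hl') ((l'⁻¹ * n * l') * n') (mul_mem (hN' _ (hLP hl') _ hn) hn') (l' * l)
      (mul_mem hl' hl) ((l⁻¹ * n' * l) * n) (mul_mem (hN' _ (hLP hl) _ hn') hn) ?_
    calc l * l' * (l'⁻¹ * n * l' * n') = (l * n) * (l' * n') := by group
      _ = (l' * n') * (l * n) := hAc _ h _ h'
      _ = l' * l * (l⁻¹ * n' * l * n) := by group
  · -- the projection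
    choose! lf hlf nf hnf hfe using hPL
    have hlB : ∀ a ∈ A, lf a ∈ B := fun a ha => ⟨hlf a (hA ha), nf a, hnf a (hA ha), by rw [← hfe a (hA ha)]; exact ha⟩
    let f : A →* B :=
      { toFun := fun a => ⟨lf a, hlB a a.2⟩
        map_one' := by
          apply Subtype.ext
          show lf 1 = 1
          refine huniq _ (hlf 1 (one_mem _)) _ (hnf 1 (one_mem _)) 1 (one_mem _) 1 (one_mem _) ?_
          rw [← hfe 1 (one_mem _), mul_one]
        map_mul' := by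
          intro a b
          apply Subtype.ext
          show lf (a * b) = lf a * lf b
          have hab : (a : G) * b ∈ P := mul_mem (hA a.2) (hA b.2)
          have hb := hlf b (hA b.2)
          refine huniq _ (hlf _ hab) _ (hnf _ hab) (lf a * lf b) (mul_mem (hlf a (hA a.2)) hb)
            (((lf b)⁻¹ * nf a * lf b) * nf b) (mul_mem (hN' _ (hLP hb) _ (hnf a (hA a.2))) (hnf b (hA b.2))) ?_
          rw [← hfe _ hab]
          calc (a : G) * b = (lf a * nf a) * (lf b * nf b) := by rw [← hfe a (hA a.2), ← hfe b (hA b.2)]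
            _ = _ := by group }
    have hsurj : Function.Surjective f := by
      rintro ⟨l, hl, n, hn, h⟩
      refine ⟨⟨l * n, h⟩, Subtype.ext ?_⟩
      show lf (l * n) = l
      exact huniq _ (hlf _ (hA h)) _ (hnf _ (hA h)) l hl n hn (hfe _ (hA h)).symm
    have hker : Nat.card f.ker = Nat.card (A ⊓ N : Subgroup G) := by
      refine Nat.card_congr
        { toFun := fun x => ⟨x.1.1, x.1.2, ?_⟩
          invFun := fun x => ⟨⟨x.1, x.2.1⟩, ?_⟩
          left_inv := fun x => rfl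
          right_inv := fun x => rfl }
      · have h1 : f x.1 = 1 := x.2
        have h2 : lf (x.1 : G) = 1 := congrArg Subtype.val h1
        have h3 := hfe _ (hA x.1.2)
        rw [h2, one_mul] at h3
        rw [SetLike.mem_coe, h3]
        exact hnf _ (hA x.1.2)
      · rw [MonoidHom.mem_ker]
        apply Subtype.ext
        show lf x.1 = 1
        exact huniq _ (hlf _ (hA x.2.1)) _ (hnf _ (hA x.2.1)) 1 (one_mem _) x.1 x.2.2
          (by rw [one_mul]; exact (hfe _ (hA x.2.1)).symm)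
    have h1 := Subgroup.card_mul_index f.ker
    rw [Subgroup.index_ker, MonoidHom.range_eq_top.2 hsurj, Subgroup.card_top, hker] at h1
    exact h1.symm

/-- `u y` and `y` have the same prime order `r`, `y` normalises the group `P` of order prime to `r`, `u ∈ P`: then
`u y = p y p⁻¹` with `p ∈ P`. -/
theorem exists_conj_of_order {P : Subgroup G} {r : ℕ} (hr : r.Prime) (hPr : ¬ r ∣ Nat.card P) {u y : G} (hu : u ∈ P)
    (hyP : ∀ x ∈ P, y * x * y⁻¹ ∈ P) (hy : y ^ r = 1) (huy : (u * y) ^ r = 1) : ∃ p ∈ P, u * y = p * y * p⁻¹ := by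
  classical
  have : Fact r.Prime := ⟨hr⟩
  let f : P → P := fun p => ⟨u * y * p * y⁻¹, by
    have e : u * y * (p : G) * y⁻¹ = u * (y * p * y⁻¹) := by group
    rw [e]; exact mul_mem hu (hyP _ p.2)⟩
  have hit : ∀ (n : ℕ) (p : P), ((f^[n] p : P) : G) = (u * y) ^ n * p * (y ^ n)⁻¹ := by
    intro n
    induction n with
    | zero => intro p; simp
    | succ n ih =>
      intro p
      rw [Function.iterate_succ_apply', pow_succ', pow_succ]
      show u * y * (f^[n] p : P) * y⁻¹ = _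
      rw [ih]
      group
  have hfr : f^[r] = id := by
    funext p
    apply Subtype.ext
    rw [hit, huy, hy]
    simp
  have : Fintype P := Fintype.ofFinite P
  let g : Function.End P := f
  have h1 : g ^ r ^ 1 = 1 := by
    rw [pow_one]
    have : ∀ n : ℕ, g ^ n = f^[n] := by
      intro n
      induction n with
      | zero => rfl
      | succ n ih => rw [pow_succ, ih]; rfl
    rw [this]; exact hfr
  have h2 := Equiv.Perm.card_fixedPoints_modEq (p := r) (n := 1) (f := g) h1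
  have h3 : ∃ p : P, f p = p := by
    by_contra hne
    push Not at hne
    have h4 : Fintype.card (Function.fixedPoints f) = 0 := by
      rw [Fintype.card_eq_zero_iff]
      exact ⟨fun x => hne x.1 x.2⟩
    have h5 : Fintype.card P ≡ Fintype.card (Function.fixedPoints f) [MOD r] := by convert h2
    rw [h4] at h5
    apply hPr
    rw [Nat.card_eq_fintype_card]
    exact (Nat.modEq_zero_iff_dvd.1 h5)
  obtain ⟨p, hp⟩ := h3
  refine ⟨p, p.2, ?_⟩
  have h4 : u * y * (p : G) * y⁻¹ = p := congrArg Subtype.val hp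
  rw [eq_mul_inv_iff_mul_eq]
  rw [mul_inv_eq_iff_eq_mul] at h4
  exact h4

end grp

end Cfsg.Agent.H991.TwFAb
end

-- part: H991/TwFAb/QBound
section
/-!
# Abelian subgroups of `Q = O_2(C(z))` in `²F₄(q)` have order at most `q⁶` (helper991, for S2501)
-/

set_option autoImplicit false
set_option linter.unusedSectionVars false

namespace Cfsg.Agent.H991.TwFAb

open Cfsg.Agent.SplitTwo Cfsg.Agent.SplitTwo.ZS Cfsg.Agent.TitsThree.RankTwoZ Cfsg.Agent.KFacts.TwF4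
open Cfsg.Agent.KFacts.TwF4.Arc Cfsg.Agent.KFacts.TwF4.Irr Cfsg.Agent.H392.TwFFour

universe u

variable {F : Type*} [Field F] {σ : F →+* F} {G : Type u} [Group G] (S : Full σ G)

/-- the commutators of `g` with the generators of `Q2 / Z_4` -/
def CV (g : G) (v : Fin 4 → F) : Prop :=
  (∀ s, g * S.e 3 0 s = S.e 3 0 s * g * S.e 2 0 (v 0 * s)) ∧ (∀ s, g * S.o 2 s = S.o 2 s * g * S.e 2 0 (v 1 * s)) ∧
    (∀ s, g * S.o 1 s = S.o 1 s * g * S.e 2 0 (v 2 * s)) ∧ ∀ s, g * S.e 1 0 s = S.e 1 0 s * g * S.e 2 0 (v 3 * s)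

theorem e2_comm {g : G} (hg : g ∈ S.PL) (u : F) : g * S.e 2 0 u = S.e 2 0 u * g := S.comm_PL hg ⟨u, rfl⟩

theorem CV_mul {g h : G} {v w : Fin 4 → F} (hh : h ∈ S.PL) (h1 : CV S g v) (h2 : CV S h w) : CV S (g * h) (v + w) := by
  have key : ∀ (y : G) (a b : F), g * y = y * g * S.e 2 0 a → h * y = y * h * S.e 2 0 b →
      g * h * y = y * (g * h) * S.e 2 0 (a + b) := by
    intro y a b ha hb
    calc g * h * y = g * (h * y) := by group
      _ = (g * y) * h * S.e 2 0 b := by rw [hb]; group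
      _ = y * g * (S.e 2 0 a * h) * S.e 2 0 b := by rw [ha]; group
      _ = y * (g * h) * (S.e 2 0 a * S.e 2 0 b) := by rw [← e2_comm S hh]; group
      _ = _ := by rw [z_add]
  obtain ⟨a0, a1, a2, a3⟩ := h1
  obtain ⟨b0, b1, b2, b3⟩ := h2
  refine ⟨fun s => ?_, fun s => ?_, fun s => ?_, fun s => ?_⟩
  · rw [Pi.add_apply, add_mul]; exact key _ _ _ (a0 s) (b0 s)
  · rw [Pi.add_apply, add_mul]; exact key _ _ _ (a1 s) (b1 s)
  · rw [Pi.add_apply, add_mul]; exact key _ _ _ (a2 s) (b2 s)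
  · rw [Pi.add_apply, add_mul]; exact key _ _ _ (a3 s) (b3 s)

theorem CV_one : CV S 1 0 := by
  refine ⟨fun s => ?_, fun s => ?_, fun s => ?_, fun s => ?_⟩ <;>
    rw [Pi.zero_apply, zero_mul, S.e_zero, one_mul, mul_one, mul_one]

/-- elements of the root groups -/
theorem CV_X {k : ℤ} (h1 : 1 ≤ k) (h2 : k ≤ 7) {g : G} (hg : g ∈ S.XZ k) : ∃ v, CV S g v := by
  have hc : ∀ {x y : G}, x * y = y * x → x * y = y * x * S.e 2 0 (0 * 0) := fun h => by
    rw [mul_zero, S.e_zero, mul_one]; exact h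
  have c0 : ∀ {x y : G} (s : F), x * y = y * x → x * y = y * x * S.e 2 0 (0 * s) := fun s h => by
    rw [zero_mul, S.e_zero, mul_one]; exact h
  interval_cases k
  · obtain ⟨t, rfl⟩ := S.X1 hg
    refine ⟨![t, 0, 0, 0], fun s => ?_, fun s => c0 s (S.o_o2 0 t s), fun s => c0 s (S.o_o1 0 t s),
      fun s => c0 s (S.o_e1 0 t 0 s)⟩
    have r : S.o 0 t * S.e 3 0 s = S.e 3 0 s * S.o 0 t * S.e 1 0 (σ t * 0) * S.o 1 (t * σ 0) *
      S.e 2 0 (t * 0 * σ 0 + t * s) := S.o_e3 0 t 0 s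
    rw [map_zero, mul_zero, mul_zero, mul_zero, zero_add, S.e_zero, S.o_zero, mul_one, mul_one] at r
    exact r
  · obtain ⟨p, u, rfl⟩ := S.X2 hg
    refine ⟨![0, p, 0, 0], fun s => c0 s (S.e_e2 1 p u 0 s), fun s => S.e_o1 1 p u s, fun s => c0 s (S.e_o0 1 p u s),
      fun s => c0 s ?_⟩
    rw [S.e_mul, S.e_mul, map_zero, mul_zero, zero_mul, add_comm p, add_comm u]
  · obtain ⟨t, rfl⟩ := S.X3 hg
    refine ⟨0, fun s => c0 s ?_, fun s => c0 s (S.o_o1 1 t s), fun s => c0 s ?_, fun s => c0 s ?_⟩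
    · have r : S.o 1 t * S.e 3 0 s = S.e 3 0 s * S.o 1 t * S.e 2 0 (t * 0) := S.o_e2 1 t 0 s
      rwa [mul_zero, S.e_zero, mul_one] at r
    · rw [S.o_add, S.o_add, add_comm]
    · exact (S.e_o0 1 0 s t).symm
  · obtain ⟨p, u, rfl⟩ := S.X4 hg
    refine ⟨0, fun s => c0 s ?_, fun s => c0 s (S.e_o0 2 p u s), fun s => c0 s (S.o_e1 1 s p u).symm, fun s => c0 s ?_⟩
    · have r : S.e 2 p u * S.e 3 0 s = S.e 3 0 s * S.e 2 p u * S.o 2 (p * 0) := S.e_e1 2 p u 0 s
      rwa [mul_zero, S.o_zero, mul_one] at r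
    · have r : S.e 1 0 s * S.e 2 p u = S.e 2 p u * S.e 1 0 s * S.o 1 (0 * p) := S.e_e1 1 0 s p u
      rw [zero_mul, S.o_zero, mul_one] at r
      exact r.symm
  · obtain ⟨t, rfl⟩ := S.X5 hg
    refine ⟨0, fun s => c0 s (S.o_e1 2 t 0 s), fun s => c0 s ?_, fun s => c0 s (S.o_o1 1 s t).symm, fun s => c0 s ?_⟩
    · rw [S.o_add, S.o_add, add_comm]
    · have r : S.e 1 0 s * S.o 2 t = S.o 2 t * S.e 1 0 s * S.e 2 0 (0 * t) := S.e_o1 1 0 s t
      rw [zero_mul, S.e_zero, mul_one] at r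
      exact r.symm
  · obtain ⟨p, u, rfl⟩ := S.X6 hg
    refine ⟨![0, 0, p, 0], fun s => c0 s ?_, fun s => c0 s (S.o_e1 2 s p u).symm, fun s => ?_,
      fun s => c0 s (S.e_e2 1 0 s p u).symm⟩
    · rw [S.e_mul, S.e_mul, map_zero, mul_zero, zero_mul, add_comm p, add_comm u]
    · have r : S.o 1 s * S.e 3 p u = S.e 3 p u * S.o 1 s * S.e 2 0 (s * p) := S.o_e2 1 s p u
      show S.e 3 p u * S.o 1 s = S.o 1 s * S.e 3 p u * S.e 2 0 (p * s)
      rw [r, mul_assoc, z_add, mul_comm s p, char2 S, S.e_zero, mul_one]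
  · obtain ⟨t, rfl⟩ := S.X7 hg
    refine ⟨![0, 0, 0, t], fun s => c0 s (S.e_o0 3 0 s t).symm, fun s => c0 s (S.o_o1 2 s t).symm,
      fun s => c0 s (S.o_o2 1 s t).symm, fun s => ?_⟩
    have r : S.e 1 0 s * S.o 3 t = S.o 3 t * S.e 1 0 s * S.e 2 0 (0 * σ 0 * t + s * t) * S.o 2 (σ 0 * t) *
      S.e 3 0 (0 * σ t) := S.e_o2 1 0 s t
    rw [map_zero, zero_mul, zero_mul, zero_mul, zero_add, S.o_zero, S.e_zero, mul_one, mul_one] at r
    show S.o 3 t * S.e 1 0 s = S.e 1 0 s * S.o 3 t * S.e 2 0 (t * s)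
    rw [r, mul_assoc, z_add, mul_comm s t, char2 S, S.e_zero, mul_one]

theorem CV_inv {g : G} {v : Fin 4 → F} (hg : g ∈ S.PL) (h : CV S g v) : CV S g⁻¹ v := by
  have key : ∀ (y : G) (a : F), g * y = y * g * S.e 2 0 a → g⁻¹ * y = y * g⁻¹ * S.e 2 0 a := by
    intro y a ha
    have h1 : g⁻¹ * (g * y) * g⁻¹ = g⁻¹ * (y * g * S.e 2 0 a) * g⁻¹ := by rw [ha]
    have h2 : y * g⁻¹ = g⁻¹ * y * S.e 2 0 a := by
      calc y * g⁻¹ = g⁻¹ * (g * y) * g⁻¹ := by group
        _ = g⁻¹ * (y * g * S.e 2 0 a) * g⁻¹ := h1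
        _ = g⁻¹ * y * (g * S.e 2 0 a) * g⁻¹ := by group
        _ = g⁻¹ * y * S.e 2 0 a := by rw [e2_comm S hg]; group
    rw [h2, mul_assoc, z_add, char2 S, S.e_zero, mul_one]
  obtain ⟨a0, a1, a2, a3⟩ := h
  exact ⟨fun s => key _ _ (a0 s), fun s => key _ _ (a1 s), fun s => key _ _ (a2 s), fun s => key _ _ (a3 s)⟩

theorem Q_le_PL : S.Q ≤ S.PL := J_mono (by norm_num) (by norm_num)

theorem exists_CV {g : G} (hg : g ∈ S.Q) : ∃ v, CV S g v := by
  let K : Subgroup G :=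
    { carrier := {g | g ∈ S.PL ∧ ∃ v, CV S g v}
      one_mem' := ⟨one_mem _, 0, CV_one S⟩
      mul_mem' := by
        rintro a b ⟨ha, v, hv⟩ ⟨hb, w, hw⟩
        exact ⟨mul_mem ha hb, v + w, CV_mul S hb hv hw⟩
      inv_mem' := by
        rintro a ⟨ha, v, hv⟩
        exact ⟨inv_mem ha, v, CV_inv S ha hv⟩ }
  have : S.Q ≤ K := J_le fun k h1 h2 x hx => ⟨mem_J hx (by omega) (by omega), CV_X S h1 h2 hx⟩
  exact (this hg).2

/-- the commutator of `g` with an element of `Q2` -/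
theorem CV_q2 {g : G} {v : Fin 4 → F} (hg : g ∈ S.PL) (h : CV S g v) (u s z t w : F) :
    g * q2 S u s z t w = q2 S u s z t w * g * S.e 2 0 (v 0 * w + v 1 * t + v 2 * s + v 3 * u) := by
  obtain ⟨a0, a1, a2, a3⟩ := h
  have hc : ∀ a : F, ∀ y ∈ S.PL, y * S.e 2 0 a = S.e 2 0 a * y := fun a y hy => e2_comm S hy a
  have m1 : S.o 1 s ∈ S.PL := mem_J (S.mX3 s) (by norm_num) (by norm_num)
  have m2 : S.e 2 0 z ∈ S.PL := mem_J (S.mX4 0 z) (by norm_num) (by norm_num)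
  have m3 : S.o 2 t ∈ S.PL := mem_J (S.mX5 t) (by norm_num) (by norm_num)
  have m4 : S.e 3 0 w ∈ S.PL := mem_J (S.mX6 0 w) (by norm_num) (by norm_num)
  unfold q2
  calc g * (S.e 1 0 u * S.o 1 s * S.e 2 0 z * S.o 2 t * S.e 3 0 w)
      = (g * S.e 1 0 u) * S.o 1 s * S.e 2 0 z * S.o 2 t * S.e 3 0 w := by group
    _ = S.e 1 0 u * g * (S.e 2 0 (v 3 * u) * (S.o 1 s * S.e 2 0 z * S.o 2 t * S.e 3 0 w)) := by rw [a3]; group
    _ = S.e 1 0 u * (g * S.o 1 s) * S.e 2 0 z * S.o 2 t * S.e 3 0 w * S.e 2 0 (v 3 * u) := by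
      rw [← hc _ _ (mul_mem (mul_mem (mul_mem m1 m2) m3) m4)]; group
    _ = S.e 1 0 u * S.o 1 s * g * (S.e 2 0 (v 2 * s) * (S.e 2 0 z * S.o 2 t * S.e 3 0 w)) * S.e 2 0 (v 3 * u) := by
      rw [a2]; group
    _ = S.e 1 0 u * S.o 1 s * (g * S.e 2 0 z) * S.o 2 t * S.e 3 0 w * (S.e 2 0 (v 2 * s) * S.e 2 0 (v 3 * u)) := by
      rw [← hc _ _ (mul_mem (mul_mem m2 m3) m4)]; group
    _ = S.e 1 0 u * S.o 1 s * S.e 2 0 z * (g * S.o 2 t) * S.e 3 0 w * (S.e 2 0 (v 2 * s) * S.e 2 0 (v 3 * u)) := by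
      rw [hc _ _ hg]; group
    _ = S.e 1 0 u * S.o 1 s * S.e 2 0 z * S.o 2 t * g * (S.e 2 0 (v 1 * t) * S.e 3 0 w) *
        (S.e 2 0 (v 2 * s) * S.e 2 0 (v 3 * u)) := by rw [a1]; group
    _ = S.e 1 0 u * S.o 1 s * S.e 2 0 z * S.o 2 t * (g * S.e 3 0 w) *
        (S.e 2 0 (v 1 * t) * (S.e 2 0 (v 2 * s) * S.e 2 0 (v 3 * u))) := by rw [← hc _ _ m4]; group
    _ = S.e 1 0 u * S.o 1 s * S.e 2 0 z * S.o 2 t * S.e 3 0 w * g *
        (S.e 2 0 (v 0 * w) * (S.e 2 0 (v 1 * t) * (S.e 2 0 (v 2 * s) * S.e 2 0 (v 3 * u)))) := by rw [a0]; group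
    _ = _ := by rw [z_add, z_add, z_add]; congr 2; ring

variable [Finite F] [Finite G]

/-- **abelian subgroups of `Q`** -/
theorem card_le_Q {A : Subgroup G} (hA : A ≤ S.Q) (hc : ∀ x ∈ A, ∀ y ∈ A, x * y = y * x) :
    Nat.card A ≤ Nat.card F ^ 6 := by
  classical
  -- the vector of an element
  let f : G → (Fin 4 → F) := fun g => if h : ∃ v, CV S g v then h.choose else 0
  have hf : ∀ g ∈ S.Q, CV S g (f g) := by
    intro g hg
    have h := exists_CV S hg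
    have e : f g = h.choose := dif_pos h
    rw [e]; exact h.choose_spec
  let X : Set (Fin 4 → F) := f '' A
  -- the coordinates of an element of `Q2`
  let c : G → (Fin 4 → F) := fun y => if h : ∃ v : Fin 4 → F, ∃ z, q2 S (v 3) (v 2) z (v 1) (v 0) = y then h.choose else 0
  have hcy : ∀ y ∈ S.Q2, ∃ z, q2 S (c y 3) (c y 2) z (c y 1) (c y 0) = y := by
    intro y hy
    obtain ⟨u, s, z, t, w, h⟩ := (mem_Q2 S).1 hy
    have h' : ∃ v : Fin 4 → F, ∃ z, q2 S (v 3) (v 2) z (v 1) (v 0) = y := ⟨![w, t, s, u], z, h⟩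
    have e : c y = h'.choose := dif_pos h'
    rw [e]; exact h'.choose_spec
  let Y : Set (Fin 4 → F) := c '' (A ⊓ S.Q2 : Subgroup G)
  have hXY : Nat.card X * Nat.card Y ≤ Nat.card F ^ 4 := by
    refine orth_card X Y ?_
    rintro _ ⟨g, hg, rfl⟩ _ ⟨y, hy, rfl⟩
    obtain ⟨z, hz⟩ := hcy y hy.2
    have h1 := CV_q2 S (Q_le_PL S (hA hg)) (hf g (hA hg)) (c y 3) (c y 2) z (c y 1) (c y 0)
    rw [hz, hc g hg y hy.1] at h1
    have h2 : S.e 2 0 (f g 0 * c y 0 + f g 1 * c y 1 + f g 2 * c y 2 + f g 3 * c y 3) = 1 := by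
      exact (mul_eq_left.1 h1.symm)
    have h3 := (S.e_eq_one h2).2
    rw [← h3]
    simp only [dotProduct, Fin.sum_univ_four]
  have hQ12 : S.Q2 ≤ S.Q1 := le_sup_right
  -- `A / (A ∩ Q1)`
  have h1 : Nat.card A ≤ Nat.card X * Nat.card (A ⊓ S.Q1 : Subgroup G) := by
    refine card_le_of_fun f X (fun a ha => ⟨a, ha, rfl⟩) ?_
    intro a ha b hb hab
    have hab' : CV S (a⁻¹ * b) 0 := by
      have e1 := CV_mul S (Q_le_PL S (hA hb)) (CV_inv S (Q_le_PL S (hA ha)) (hf a (hA ha))) (hf b (hA hb))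
      have e2 : f a + f b = 0 := by
        rw [hab]; funext i; exact char2 S _
      rwa [e2] at e1
    have hmem : a⁻¹ * b ∈ S.PL := Q_le_PL S (mul_mem (inv_mem (hA ha)) (hA hb))
    rw [← S.centralizer_Q2, Subgroup.mem_centralizer_iff]
    intro y hy
    obtain ⟨u, s, z, t, w, rfl⟩ := (mem_Q2 S).1 hy
    have e := CV_q2 S hmem hab' u s z t w
    simp only [Pi.zero_apply, zero_mul, add_zero] at e
    rw [S.e_zero, mul_one] at e
    exact e.symm
  -- `(A ∩ Q1) / (A ∩ Q2)`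
  have h2 : Nat.card (A ⊓ S.Q1 : Subgroup G) ≤ Nat.card F * Nat.card (A ⊓ S.Q2 : Subgroup G) := by
    have hq1 : ∀ x ∈ S.Q1, ∃ p, ∃ y ∈ S.Q2, x = S.e 2 p 0 * y := by
      intro x hx
      obtain ⟨a, ha, b, hb, rfl⟩ := mem_sup_of_norm (A := S.XZ 4) (B := S.Q2) (fun a ha b hb => by
        rw [S.Q1_comm (Subgroup.mem_sup_left ha) hb, mul_inv_cancel_right]; exact hb) hx
      obtain ⟨p, u, rfl⟩ := S.X4 ha
      refine ⟨p, S.e 2 0 u * b, mul_mem (S.q2_3 u) hb, ?_⟩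
      rw [← mul_assoc, S.e_mul]
      congr 2
      · rw [add_zero]
      · rw [map_zero, mul_zero, add_zero, zero_add]
    choose! p hp using hq1
    have h3 := card_le_of_fun (A := A ⊓ S.Q1) (K := S.Q2) p Set.univ (fun _ _ => Set.mem_univ _) (by
      rintro a ⟨-, ha⟩ b ⟨-, hb⟩ hab
      obtain ⟨y, hy, ea⟩ := hp a ha
      obtain ⟨y', hy', eb⟩ := hp b hb
      rw [ea, eb, hab]
      have e : (S.e 2 (p b) 0 * y)⁻¹ * (S.e 2 (p b) 0 * y') = y⁻¹ * y' := by group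
      rw [e]; exact mul_mem (inv_mem hy) hy')
    rw [Nat.card_congr (Equiv.Set.univ F)] at h3
    have e : (A ⊓ S.Q1 ⊓ S.Q2 : Subgroup G) = A ⊓ S.Q2 := by
      rw [inf_assoc, inf_eq_right.2 hQ12]
    rwa [e] at h3
  -- `A ∩ Q2`
  have h3 : Nat.card (A ⊓ S.Q2 : Subgroup G) ≤ Nat.card Y * Nat.card F := by
    have h4 := card_le_of_fun (A := A ⊓ S.Q2) (K := S.Zc 2) c Y (fun a ha => ⟨a, ha, rfl⟩) (by
      rintro a ⟨-, ha⟩ b ⟨-, hb⟩ hab
      obtain ⟨z, hz⟩ := hcy a ha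
      obtain ⟨z', hz'⟩ := hcy b hb
      rw [← hab] at hz'
      rw [← hz, ← hz']
      refine ⟨z + z', ?_⟩
      rw [eq_inv_mul_iff_mul_eq]
      have hc' : ∀ y ∈ S.PL, y * S.e 2 0 (z + z') = S.e 2 0 (z + z') * y := fun y hy => e2_comm S hy _
      have m3 : S.o 2 (c a 1) ∈ S.PL := mem_J (S.mX5 _) (by norm_num) (by norm_num)
      have m4 : S.e 3 0 (c a 0) ∈ S.PL := mem_J (S.mX6 0 _) (by norm_num) (by norm_num)
      unfold q2
      calc S.e 1 0 (c a 3) * S.o 1 (c a 2) * S.e 2 0 z * S.o 2 (c a 1) * S.e 3 0 (c a 0) * S.e 2 0 (z + z')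
          = S.e 1 0 (c a 3) * S.o 1 (c a 2) * S.e 2 0 z * ((S.o 2 (c a 1) * S.e 3 0 (c a 0)) * S.e 2 0 (z + z')) := by group
        _ = S.e 1 0 (c a 3) * S.o 1 (c a 2) * (S.e 2 0 z * S.e 2 0 (z + z')) * S.o 2 (c a 1) * S.e 3 0 (c a 0) := by
          rw [hc' _ (mul_mem m3 m4)]; group
        _ = _ := by
          rw [z_add, ← add_assoc, char2 S, zero_add])
    have h5 : Nat.card (A ⊓ S.Q2 ⊓ S.Zc 2 : Subgroup G) ≤ Nat.card F := by
      rw [← card_Zc S 2]
      exact Subgroup.card_le_of_le inf_le_right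
    exact h4.trans (Nat.mul_le_mul_left _ h5)
  calc Nat.card A ≤ Nat.card X * (Nat.card F * (Nat.card Y * Nat.card F)) :=
        h1.trans (Nat.mul_le_mul_left _ (h2.trans (Nat.mul_le_mul_left _ h3)))
    _ = (Nat.card X * Nat.card Y) * (Nat.card F * Nat.card F) := by ring
    _ ≤ Nat.card F ^ 4 * (Nat.card F * Nat.card F) := Nat.mul_le_mul_right _ hXY
    _ = Nat.card F ^ 6 := by ring

end Cfsg.Agent.H991.TwFAb
end

-- part: H991/TwFAb/EvenZ
section
/-!
# Abelian subgroups of the centraliser of a 2-central involution of `²F₄(q)` (helper991, for S2501)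

`card_PL_cube` : `|A|³ < q²⁰ (q - 1)² (q² + 1)` for an abelian subgroup `A` of `C(z)`.
-/

set_option autoImplicit false
set_option linter.unusedSectionVars false

namespace Cfsg.Agent.H991.TwFAb

open Cfsg.Agent.SplitTwo Cfsg.Agent.SplitTwo.ZS Cfsg.Agent.TitsThree.RankTwoZ Cfsg.Agent.KFacts.TwF4
open Cfsg.Agent.KFacts.TwF4.Arc Cfsg.Agent.KFacts.TwF4.Irr Cfsg.Agent.H392.TwFFour Cfsg.Agent.KFacts.TwF4.Inv
  Cfsg.Agent.KFacts.TwF4.TorEx Cfsg.Agent.KFacts.TwF4.Perf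

universe u

variable {F : Type*} [Field F] {σ : F →+* F} {G : Type u} [Group G] (S : Full σ G)

/-- abelian subgroups of Suzuki groups -/
theorem suz_cube {L : Type*} [Group L] (h : Cfsg.Lie.IsoSuzuki L) {B : Subgroup L}
    (hB : ∀ x ∈ B, ∀ y ∈ B, x * y = y * x) : Nat.card B ^ 3 < Nat.card L := by
  obtain ⟨F, _, _, m, hm, hF, ⟨e⟩⟩ := h
  obtain ⟨f⟩ := OddCyclic.ClaimC.SzIso.iso hm hF
  exact ((H753.AbSz.ab3_Sz_aux hm hF).congr (f.trans e.symm)) B (Cfsg.Agent.H498.Ab.comm_iff.2 hB)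

theorem L4_inf_Q (hF : ∃ c : Fˣ, c ≠ 1) {x : G} (hx : x ∈ L4 S) (hx' : x ∈ S.Q) : x = 1 := by
  obtain ⟨w, hw⟩ := hF
  obtain ⟨h, hT, h1, h2⟩ := exists_tt S hw 0
  have h3 : L4 S ≤ Subgroup.centralizer {h} := by
    refine sup_le (fun y hy => ?_) (fun y hy => ?_)
    · rw [Subgroup.mem_centralizer_singleton_iff]
      exact (mul_inv_eq_iff_eq_mul.1 (h1 0 ⟨0, by norm_num⟩ y hy)).symm
    · rw [Subgroup.mem_centralizer_singleton_iff]
      exact (mul_inv_eq_iff_eq_mul.1 (h1 8 ⟨1, by norm_num⟩ y hy)).symm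
  have h4 : h * x * h⁻¹ = x := by
    have := Subgroup.mem_centralizer_singleton_iff.1 (h3 hx)
    rw [← this, mul_inv_cancel_right]
  exact S.fix_J_one hT (a := 1) (b := 7) (by norm_num) (fun j h5 h6 y hy hty => h2 j (by omega) y hy hty) hx' h4

variable [Finite F] [Finite G]

theorem card_UT_le : Nat.card (J S.XZ 1 8 ⊔ S.T : Subgroup G) ≤ Nat.card F ^ 12 * (Nat.card F - 1) ^ 2 := by
  rw [← card_U S, ← card_T S, ← Nat.card_prod]
  refine Nat.card_le_card_of_surjective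
    (fun w : J S.XZ 1 8 × S.T => (⟨w.1 * w.2, Subgroup.mul_mem_sup w.1.2 w.2.2⟩ : (J S.XZ 1 8 ⊔ S.T : Subgroup G))) ?_
  rintro ⟨g, hg⟩
  obtain ⟨u, hu, t, ht, rfl⟩ := H127.TwFInv.form_BT S hg
  exact ⟨(⟨u, hu⟩, ⟨t, ht⟩), rfl⟩

theorem card_mul_le {P L N : Subgroup G} (hL : L ≤ P) (hN : N ≤ P) (h : ∀ x ∈ L, x ∈ N → x = 1) :
    Nat.card L * Nat.card N ≤ Nat.card P := by
  rw [← Nat.card_prod]
  refine Nat.card_le_card_of_injective (fun w : L × N => (⟨w.1 * w.2, mul_mem (hL w.1.2) (hN w.2.2)⟩ : P)) ?_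
  rintro ⟨⟨a, ha⟩, ⟨b, hb⟩⟩ ⟨⟨c, hc⟩, ⟨d, hd⟩⟩ hab
  have h1 : a * b = c * d := congrArg Subtype.val hab
  have h2 : c⁻¹ * a = d * b⁻¹ := by rw [inv_mul_eq_iff_eq_mul, ← mul_assoc, ← h1, mul_inv_cancel_right]
  have h3 : c⁻¹ * a = 1 := h _ (mul_mem (inv_mem hc) ha) (by rw [h2]; exact mul_mem hd (inv_mem hb))
  have h4 : a = c := (inv_mul_eq_one.1 h3).symm
  subst h4
  have h5 : b = d := mul_left_cancel h1
  subst h5
  rfl

theorem card_L4_le (hF : ∃ c : Fˣ, c ≠ 1) :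
    Nat.card (L4 S) ≤ Nat.card F ^ 2 * (Nat.card F - 1) ^ 2 * (1 + Nat.card F * Nat.card F) := by
  have h1 : Nat.card (L4 S) * Nat.card S.Q ≤ Nat.card S.PL :=
    card_mul_le (L4_le_PL S) (Q_le_PL S) (fun x h1 h2 => L4_inf_Q S hF h1 h2)
  rw [card_Q, H127.TwFInv.card_PL S] at h1
  have h2 : Nat.card (S.PL ⊓ (J S.XZ 1 8 ⊔ S.T) : Subgroup G) ≤ Nat.card F ^ 12 * (Nat.card F - 1) ^ 2 :=
    (Subgroup.card_le_of_le inf_le_right).trans (card_UT_le S)
  have hq : 0 < Nat.card F ^ 10 := pow_pos Nat.card_pos _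
  refine Nat.le_of_mul_le_mul_right ?_ hq
  calc Nat.card (L4 S) * Nat.card F ^ 10 ≤ _ := h1
    _ ≤ Nat.card F ^ 12 * (Nat.card F - 1) ^ 2 * (1 + Nat.card F * Nat.card F) := Nat.mul_le_mul_right _ h2
    _ = _ := by ring

/-- **abelian subgroups of `C(z)`** -/
theorem card_PL_cube {k : ℕ} (hk : 2 ≤ k) (hF : Nat.card F = 2 ^ k) {A : Subgroup G} (hA : A ≤ S.PL)
    (hc : ∀ x ∈ A, ∀ y ∈ A, x * y = y * x) :
    Nat.card A ^ 3 < Nat.card F ^ 20 * (Nat.card F - 1) ^ 2 * (Nat.card F ^ 2 + 1) := by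
  have hF1 : ∃ c : Fˣ, c ≠ 1 := by
    have h1 : Nat.card Fˣ = Nat.card F - 1 := Nat.card_units F
    have h2 : 4 ≤ Nat.card F := by
      rw [hF]
      calc 4 = 2 ^ 2 := rfl
        _ ≤ 2 ^ k := Nat.pow_le_pow_right (by norm_num) hk
    have h3 : 1 < Nat.card Fˣ := by omega
    have : Nontrivial Fˣ := Finite.one_lt_card_iff_nontrivial.1 h3
    exact exists_ne 1
  obtain ⟨B, hBL, hBc, hcard⟩ := card_split (P := S.PL) (N := S.Q) (L := L4 S) (A := A)
    (fun g hg n hn => Q_norm S hg hn) (L4_le_PL S) (fun g hg => PL_split S hg)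
    (fun x h1 h2 => L4_inf_Q S hF1 h1 h2) hA hc
  have hI : Cfsg.Lie.IsoSuzuki ↥(L4 S) := by
    have h1 := H84.GaussTwF4.LL_iso S hk hF
    rw [H84.GaussTwF4.LJ_eq] at h1
    have h2 : H84.GaussTwF4.LL S = L4 S := sup_comm _ _
    rwa [h2] at h1
  have hB3 : Nat.card B ^ 3 < Nat.card (L4 S) := by
    have h1 := suz_cube hI (B := B.subgroupOf (L4 S)) (by
      intro x hx y hy
      exact Subtype.ext (hBc _ hx _ hy))
    rwa [Nat.card_congr (Subgroup.subgroupOfEquivOfLe hBL).toEquiv] at h1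
  have h6 : Nat.card (A ⊓ S.Q : Subgroup G) ≤ Nat.card F ^ 6 :=
    card_le_Q S inf_le_right (fun x hx y hy => hc x hx.1 y hy.1)
  have hpos : 0 < Nat.card (A ⊓ S.Q : Subgroup G) := Nat.card_pos
  calc Nat.card A ^ 3 = Nat.card (A ⊓ S.Q : Subgroup G) ^ 3 * Nat.card B ^ 3 := by rw [hcard, mul_pow]
    _ < Nat.card (A ⊓ S.Q : Subgroup G) ^ 3 * Nat.card (L4 S) := Nat.mul_lt_mul_of_pos_left hB3 (pow_pos hpos 3)
    _ ≤ (Nat.card F ^ 6) ^ 3 * (Nat.card F ^ 2 * (Nat.card F - 1) ^ 2 * (1 + Nat.card F * Nat.card F)) :=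
      Nat.mul_le_mul (Nat.pow_le_pow_left h6 3) (card_L4_le S hF1)
    _ = _ := by ring

end Cfsg.Agent.H991.TwFAb
end

-- part: H991/TwFAb/EvenO
section
/-!
# Abelian subgroups of `C(o)` in `²F₄(q)` (helper991, for S2501)

`card_HO_le` : `|A| ≤ q⁷ (q + 1)` for an abelian subgroup `A` of `HO = C(X_5)` with `A ∩ Z_4 Z_6 = 1` and order prime to
`q - 1`.
-/

set_option autoImplicit false
set_option linter.unusedSectionVars false

namespace Cfsg.Agent.H991.TwFAb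

open Cfsg.Agent.SplitTwo Cfsg.Agent.SplitTwo.ZS Cfsg.Agent.TitsThree.RankTwoZ Cfsg.Agent.KFacts.TwF4
open Cfsg.Agent.KFacts.TwF4.Arc Cfsg.Agent.KFacts.TwF4.Irr Cfsg.Agent.H392.TwFFour Cfsg.Agent.KFacts.TwF4.Inv
  Cfsg.Agent.KFacts.TwF4.TorEx Cfsg.Agent.KFacts.TwF4.Perf
open scoped Pointwise

universe u

variable {F : Type*} [Field F] {σ : F →+* F} {G : Type u} [Group G] (S : Full σ G) [Finite F] [Finite G]

theorem card_J37 : Nat.card (J S.XZ 3 7) = Nat.card F ^ 7 := by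
  have h3 := card_odd S 1
  have h4 := card_even S 2
  have h5 := card_odd S 2
  have h6 := card_even S 3
  have h7 := card_odd S 3
  norm_num only [] at h3 h4 h5 h6 h7
  rw [card_J_succ S (by norm_num) (by norm_num), card_J_succ S (by norm_num) (by norm_num),
    card_J_succ S (by norm_num) (by norm_num), card_J_succ S (by norm_num) (by norm_num),
    card_J_succ S (by norm_num) (by norm_num), card_J_empty S (by norm_num)]
  norm_num only [_root_.mul_one]
  rw [h3, h4, h5, h6, h7]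
  ring

/-- `|A ∩ NO| ≤ q⁷` when `A ∩ Z_4 Z_6 = 1` -/
theorem card_NO_le {A : Subgroup G} (hA : A ≤ S.NO) (hW : ∀ x ∈ A, x ∈ S.W46 → x = 1) :
    Nat.card A ≤ Nat.card F ^ 7 := by
  have h1 : ∀ x ∈ S.NO, ∃ w : F × F, ∃ r ∈ J S.XZ 3 7, x = S.e 1 0 w.1 * r * S.e 4 0 w.2 := by
    intro x hx
    obtain ⟨u, v, r, hr, e⟩ := S.mem_NO_iff.1 hx
    exact ⟨(u, v), r, hr, e⟩
  choose! c hc using h1
  have h2 := card_le_of_fun (A := A) (K := J S.XZ 3 7) c Set.univ (fun _ _ => Set.mem_univ _) (by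
    intro a ha b hb hab
    obtain ⟨r, hr, ea⟩ := hc a (hA ha)
    obtain ⟨r', hr', eb⟩ := hc b (hA hb)
    rw [ea, eb, hab]
    have e : (S.e 1 0 (c b).1 * r * S.e 4 0 (c b).2)⁻¹ * (S.e 1 0 (c b).1 * r' * S.e 4 0 (c b).2) =
      (S.e 4 0 (c b).2)⁻¹ * (r⁻¹ * r') * (S.e 4 0 (c b).2)⁻¹⁻¹ := by group
    rw [e]
    exact S.zsys8.conj_J (a := 3) (b := 7) (c := 8) (d := 8) (by norm_num) (by norm_num) (by norm_num)
      (inv_mem (mem_J (S.mX8 _ _) le_rfl le_rfl)) (mul_mem (inv_mem hr) hr'))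
  rw [Nat.card_congr (Equiv.Set.univ _), Nat.card_prod] at h2
  have h3 : Nat.card (A ⊓ J S.XZ 3 7 : Subgroup G) * Nat.card S.W46 ≤ Nat.card (J S.XZ 3 7) :=
    card_mul_le inf_le_right (S.W46_le.trans (J_mono (by norm_num) (by norm_num))) (fun x hx hx' => hW x hx.1 hx')
  rw [card_W46, card_J37] at h3
  have hq : 0 < Nat.card F := Nat.card_pos
  have h4 : Nat.card (A ⊓ J S.XZ 3 7 : Subgroup G) ≤ Nat.card F ^ 5 := by
    refine Nat.le_of_mul_le_mul_right ?_ (pow_pos hq 2)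
    calc _ ≤ Nat.card F ^ 7 := h3
      _ = _ := by ring
  calc Nat.card A ≤ _ := h2
    _ ≤ Nat.card F * Nat.card F * Nat.card F ^ 5 := Nat.mul_le_mul_left _ h4
    _ = _ := by ring

/-- `C_LO(x) = X_1` for `1 ≠ x ∈ X_1` -/
theorem cent_X1 {x g : G} (hx : x ∈ S.XZ 1) (hx1 : x ≠ 1) (hg : g ∈ S.LO) (h : g * x = x * g) : g ∈ S.XZ 1 := by
  have hX : ∀ a ∈ S.XZ 1, ∀ b ∈ S.XZ 1, a * b = b * a := by
    intro a ha b hb
    obtain ⟨s, rfl⟩ := S.X1 ha
    obtain ⟨t, rfl⟩ := S.X1 hb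
    rw [S.o_add, S.o_add, add_comm]
  rcases H42.Deg.F4.LO_bruhat S hg with hb | ⟨y, hy, b, hb, rfl⟩
  · obtain ⟨y, hy, t, ht, rfl⟩ := H42.Deg.F4.BM_form S hb
    obtain ⟨c, rfl⟩ := ht
    obtain ⟨s, rfl⟩ := S.X1 hx
    have h1 : S.h c c * S.o 0 s = S.o 0 s * S.h c c := by
      have h2 : y * (S.h c c * S.o 0 s) = y * (S.o 0 s * S.h c c) := by
        calc y * (S.h c c * S.o 0 s) = (y * S.h c c) * S.o 0 s := by group
          _ = S.o 0 s * (y * S.h c c) := h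
          _ = (S.o 0 s * y) * S.h c c := by group
          _ = y * (S.o 0 s * S.h c c) := by rw [hX _ hx _ hy]; group
      exact mul_left_cancel h2
    rw [← mul_inv_eq_iff_eq_mul, S.h_o] at h1
    have h2 := S.injO 0 h1
    have hs : s ≠ 0 := by rintro rfl; exact hx1 (S.o_zero 0)
    have h3 : (c * c : Fˣ) = 1 := by
      apply Units.ext
      rw [Units.val_one]
      exact mul_right_cancel₀ hs (by rw [one_mul]; exact h2)
    have h4 : c = 1 := SylU.unit_sq S h3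
    rw [h4, S.h_one, mul_one]; exact hy
  · exfalso
    have h1 : b * x * b⁻¹ ∈ S.XZ 1 := H42.Deg.F4.BM_norm S hb hx
    have h2 : S.n1 * (b * x * b⁻¹) * S.n1⁻¹ = x := by
      have e : y * S.n1 * b * x = x * (y * S.n1 * b) := h
      have e2 : y * (S.n1 * (b * x * b⁻¹) * S.n1⁻¹) = y * x := by
        calc y * (S.n1 * (b * x * b⁻¹) * S.n1⁻¹) = (y * S.n1 * b * x) * (b⁻¹ * S.n1⁻¹) := by group
          _ = x * y := by rw [e]; group
          _ = y * x := hX _ hx _ hy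
      exact mul_left_cancel e2
    obtain ⟨s, hs⟩ := S.X1 h1
    have h3 : x ∈ S.XZ 9 := by
      rw [← h2, ← hs, H42.Deg.F4.n1_X1]
      exact S.mX9 s
    exact hx1 (S.X_inf_opp (i := 1) hx h3)

theorem LO_inf_NO (hF : ∃ c : Fˣ, c ≠ 1) {x : G} (hx : x ∈ S.LO) (hx' : x ∈ S.NO) : x = 1 :=
  H42.Deg.F4.LO_inf_N1 S hF hx (Subgroup.mem_sup_right hx'.1)

theorem NO_norm {g x : G} (hg : g ∈ S.HO) (hx : x ∈ S.NO) : g * x * g⁻¹ ∈ S.NO := by
  have hg9 : g ∈ J S.XZ 1 9 := by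
    have : S.HO ≤ J S.XZ 1 9 := sup_le S.LO_le_J (inf_le_left.trans (J_mono (by norm_num) (by norm_num)))
    exact this hg
  refine ⟨S.zsys8.conj_J (a := 2) (b := 8) (c := 1) (d := 9) (by norm_num) (by norm_num) (by norm_num) hg9 hx.1, ?_⟩
  have h1 := S.HO_le_cent hg
  exact (Subgroup.centralizer (S.XZ 5 : Set G)).mul_mem ((Subgroup.centralizer (S.XZ 5 : Set G)).mul_mem h1 hx.2)
    ((Subgroup.centralizer (S.XZ 5 : Set G)).inv_mem h1)

/-- abelian subgroups of `LO` of order prime to `q - 1` -/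
theorem card_LO_le {k : ℕ} (hk : 2 ≤ k) (hq : Nat.card F = 2 ^ k) {B : Subgroup G} (hB : B ≤ S.LO)
    (hc : ∀ x ∈ B, ∀ y ∈ B, x * y = y * x) (hcop : (Nat.card B).Coprime (Nat.card F - 1)) :
    Nat.card B ≤ Nat.card F + 1 := by
  have hFu : Nat.card Fˣ = Nat.card F - 1 := Nat.card_units F
  have hF4 : 4 ≤ Nat.card F := by
    rw [hq]
    calc 4 = 2 ^ 2 := rfl
      _ ≤ 2 ^ k := Nat.pow_le_pow_right (by norm_num) hk
  have hF : ∃ c : Fˣ, c ≠ 1 := by
    have h3 : 1 < Nat.card Fˣ := by omega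
    have : Nontrivial Fˣ := Finite.one_lt_card_iff_nontrivial.1 h3
    exact exists_ne 1
  have hLO := H42.Deg.F4.card_LO S
  rw [hFu] at hLO
  by_cases h2 : 2 ∣ Nat.card B
  · -- an involution of `B`
    have hfact : Fact (Nat.Prime 2) := ⟨Nat.prime_two⟩
    obtain ⟨b, hb⟩ := exists_prime_orderOf_dvd_card' 2 h2
    have hbLO : (b : G) ∈ S.LO := hB b.2
    have hb2 : (b : G) * b = 1 := by
      have := pow_orderOf_eq_one b
      rw [hb, pow_two] at this
      exact congrArg Subtype.val this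
    have hb1 : (b : G) ≠ 1 := by
      intro h
      have : b = 1 := Subtype.ext h
      rw [this, orderOf_one] at hb
      omega
    -- conjugate into `X_1`
    have hX1c : Nat.card (S.XZ 1) = Nat.card F := H42.Deg.F4.card_X1 S
    have hconj : ∃ l ∈ S.LO, l * b * l⁻¹ ∈ S.XZ 1 := by
      have hX1L : S.XZ 1 ≤ S.LO := le_sup_left
      have hUU : Nat.card (H42.Deg.F4.UU S) = 2 ^ k := by
        rw [← hq, ← hX1c]
        exact Nat.card_congr (Subgroup.subgroupOfEquivOfLe hX1L).toEquiv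
      have hp : IsPGroup 2 (H42.Deg.F4.UU S) := IsPGroup.of_card hUU
      have hi : ¬ 2 ∣ (H42.Deg.F4.UU S).index := by
        have h1 := (H42.Deg.F4.UU S).card_mul_index
        rw [hUU, hLO, ← hq] at h1
        have h3 : (H42.Deg.F4.UU S).index = (Nat.card F - 1) * (Nat.card F + 1) := by
          have h4 : Nat.card F * (H42.Deg.F4.UU S).index = Nat.card F * ((Nat.card F - 1) * (Nat.card F + 1)) := by
            rw [h1]; ring
          exact Nat.eq_of_mul_eq_mul_left (by omega) h4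
        rw [h3]
        have h5 : Even (Nat.card F) := by
          rw [hq]; exact (Nat.even_pow' (by omega)).2 even_two
        have h6 : Odd (Nat.card F - 1) := Nat.Even.sub_odd (by omega) h5 odd_one
        have h7 : Odd (Nat.card F + 1) := h5.add_one
        have h8 := h6.mul h7
        rw [← even_iff_two_dvd]
        exact Nat.not_even_iff_odd.2 h8
      let P := hp.toSylow hi
      have h2' : IsPGroup 2 (Subgroup.zpowers (⟨b, hbLO⟩ : S.LO)) := by
        rintro ⟨x, hx⟩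
        obtain ⟨n, rfl⟩ := Subgroup.mem_zpowers_iff.1 hx
        refine ⟨1, Subtype.ext (Subtype.ext ?_)⟩
        show ((b : G) ^ n) ^ (2 ^ 1) = 1
        rw [pow_one, pow_two, ← zpow_add, ← two_mul, zpow_mul, zpow_two, hb2, one_zpow]
      obtain ⟨P', hP'⟩ := h2'.exists_le_sylow
      obtain ⟨l, hl⟩ := MulAction.exists_smul_eq S.LO P' P
      have h9 : l * (⟨b, hbLO⟩ : S.LO) * l⁻¹ ∈ (P : Subgroup S.LO) := by
        rw [← hl]
        show l * (⟨b, hbLO⟩ : S.LO) * l⁻¹ ∈ ((MulAut.conj l • (P' : Subgroup S.LO) : Subgroup S.LO))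
        exact Subgroup.smul_mem_pointwise_smul _ (MulAut.conj l) _ (hP' (Subgroup.mem_zpowers _))
      exact ⟨l, l.2, h9⟩
    obtain ⟨l, hl, hlx⟩ := hconj
    have hle : B.map (MulAut.conj l).toMonoidHom ≤ S.XZ 1 := by
      rintro _ ⟨y, hy, rfl⟩
      show l * y * l⁻¹ ∈ S.XZ 1
      refine cent_X1 S hlx ?_ (mul_mem (mul_mem hl (hB hy)) (inv_mem hl)) ?_
      · intro h
        apply hb1
        have : l * (b : G) * l⁻¹ = l * 1 * l⁻¹ := by rw [h]; group
        exact mul_left_cancel (mul_right_cancel this)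
      · calc l * y * l⁻¹ * (l * b * l⁻¹) = l * (y * b) * l⁻¹ := by group
          _ = l * (b * y) * l⁻¹ := by rw [hc y hy b b.2]
          _ = l * b * l⁻¹ * (l * y * l⁻¹) := by group
    have h3 := Subgroup.card_le_of_le hle
    rw [hX1c, Nat.card_congr (Subgroup.equivMapOfInjective B _ (MulAut.conj l).injective).symm.toEquiv] at h3
    omega
  · -- odd order
    have h3 : Nat.card B ∣ Nat.card S.LO := Subgroup.card_dvd_of_le hB
    rw [hLO] at h3
    have h4 : (Nat.card B).Coprime (Nat.card F) := by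
      rw [hq]
      exact Nat.Coprime.pow_right _ ((Nat.Prime.coprime_iff_not_dvd Nat.prime_two).2 h2).symm
    have h5 : Nat.card B ∣ Nat.card F + 1 := by
      refine (Nat.Coprime.mul_right h4 hcop).dvd_of_dvd_mul_left h3
    exact Nat.le_of_dvd (by omega) h5

/-- **abelian subgroups of `C(o)`** -/
theorem card_HO_le {k : ℕ} (hk : 2 ≤ k) (hq : Nat.card F = 2 ^ k) {A : Subgroup G} (hA : A ≤ S.HO)
    (hc : ∀ x ∈ A, ∀ y ∈ A, x * y = y * x) (hcop : (Nat.card A).Coprime (Nat.card F - 1))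
    (hW : ∀ x ∈ A, x ∈ S.W46 → x = 1) : Nat.card A ≤ Nat.card F ^ 7 * (Nat.card F + 1) := by
  have hF4 : 4 ≤ Nat.card F := by
    rw [hq]
    calc 4 = 2 ^ 2 := rfl
      _ ≤ 2 ^ k := Nat.pow_le_pow_right (by norm_num) hk
  have hF : ∃ c : Fˣ, c ≠ 1 := by
    have h3 : 1 < Nat.card Fˣ := by
      rw [Nat.card_units]; omega
    have : Nontrivial Fˣ := Finite.one_lt_card_iff_nontrivial.1 h3
    exact exists_ne 1
  obtain ⟨B, hBL, hBc, hcard⟩ := card_split (P := S.HO) (N := S.NO) (L := S.LO) (A := A)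
    (fun g hg n hn => NO_norm S hg hn) le_sup_left
    (fun g hg => mem_sup_of_norm (fun l hl n hn => NO_norm S (Subgroup.mem_sup_left hl) hn) hg)
    (fun x h1 h2 => LO_inf_NO S hF h1 h2) hA hc
  have h1 : Nat.card B ≤ Nat.card F + 1 := by
    refine card_LO_le S hk hq hBL hBc (Nat.Coprime.coprime_dvd_left ?_ hcop)
    rw [hcard]; exact Dvd.intro_left _ rfl
  have h2 : Nat.card (A ⊓ S.NO : Subgroup G) ≤ Nat.card F ^ 7 :=
    card_NO_le S inf_le_right (fun x hx hx' => hW x hx.1 hx')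
  rw [hcard]
  exact Nat.mul_le_mul h2 h1

end Cfsg.Agent.H991.TwFAb
end
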